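import Cfsg.Agent.Fi22Out.Basic

/-! Generated: the checks along the chain of generators. -/

set_option Elab.async false

namespace Cfsg.Agent.Fi22Out

/-- Node 0. -/
def node0 : List (Nat × Nat) := [(0, 0)]

theorem node0_ok : okNode node0 1 [2] nodeStore0 = true := by
  decide +kernel

/-- Node 1. -/
def node1 : List (Nat × Nat) := [(1, 2), (0, 0)]

theorem node1_ok : okNode node1 2 [6] nodeStore1 = true := by
  decide +kernel

/-- Node 2. -/
def node2 : List (Nat × Nat) := [(2, 6), (1, 2), (0, 0)]

theorem node2_ok : okNode node2 3 [16] nodeStore2 = true := by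
  decide +kernel

/-- Node 3. -/
def node3 : List (Nat × Nat) := [(3, 16), (2, 6), (1, 2), (0, 0)]

theorem node3_ok : okNode node3 7 [43, 40, 424] nodeStore3 = true := by
  decide +kernel

/-- Node 4. -/
def node4 : List (Nat × Nat) := [(7, 43), (3, 16), (2, 6), (1, 2), (0, 0)]

theorem node4_ok : okNode node4 8 [92] nodeStore4 = true := by
  decide +kernel

/-- Node 5. -/
def node5 : List (Nat × Nat) := [(8, 92), (7, 43), (3, 16), (2, 6), (1, 2), (0, 0)]

theorem node5_ok : okNode node5 4 [40] nodeStore5 = true := by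
  decide +kernel

/-- Node 6. -/
def node6 : List (Nat × Nat) := [(4, 40), (8, 92), (7, 43), (3, 16), (2, 6), (1, 2), (0, 0)]

theorem node6_ok : okNode node6 5 [88] nodeStore6 = true := by
  decide +kernel

/-- Node 7. -/
def node7 : List (Nat × Nat) := [(5, 88), (4, 40), (8, 92), (7, 43), (3, 16), (2, 6), (1, 2), (0, 0)]

theorem node7_ok : okNode node7 6 [154] nodeStore7 = true := by
  decide +kernel

/-- Node 8. -/
def node8 : List (Nat × Nat) := [(7, 40), (3, 16), (2, 6), (1, 2), (0, 0)]

theorem node8_ok : okNode node8 8 [88] nodeStore8 = true := by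
  decide +kernel

/-- Node 9. -/
def node9 : List (Nat × Nat) := [(8, 88), (7, 40), (3, 16), (2, 6), (1, 2), (0, 0)]

theorem node9_ok : okNode node9 4 [43, 424, 676] nodeStore9 = true := by
  decide +kernel

/-- Node 10. -/
def node10 : List (Nat × Nat) := [(4, 43), (8, 88), (7, 40), (3, 16), (2, 6), (1, 2), (0, 0)]

theorem node10_ok : okNode node10 5 [92] nodeStore10 = true := by
  decide +kernel

/-- Node 11. -/
def node11 : List (Nat × Nat) := [(5, 92), (4, 43), (8, 88), (7, 40), (3, 16), (2, 6), (1, 2), (0, 0)]

theorem node11_ok : okNode node11 6 [] nodeStore11 = true := by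
  decide +kernel

/-- Node 12. -/
def node12 : List (Nat × Nat) := [(4, 424), (8, 88), (7, 40), (3, 16), (2, 6), (1, 2), (0, 0)]

theorem node12_ok : okNode node12 5 [92] nodeStore12 = true := by
  decide +kernel

/-- Node 13. -/
def node13 : List (Nat × Nat) := [(5, 92), (4, 424), (8, 88), (7, 40), (3, 16), (2, 6), (1, 2), (0, 0)]

theorem node13_ok : okNode node13 6 [] nodeStore13 = true := by
  decide +kernel

/-- Node 14. -/
def node14 : List (Nat × Nat) := [(4, 676), (8, 88), (7, 40), (3, 16), (2, 6), (1, 2), (0, 0)]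

theorem node14_ok : okNode node14 5 [] nodeStore14 = true := by
  decide +kernel

/-- Node 15. -/
def node15 : List (Nat × Nat) := [(7, 424), (3, 16), (2, 6), (1, 2), (0, 0)]

theorem node15_ok : okNode node15 8 [92] nodeStore15 = true := by
  decide +kernel

/-- Node 16. -/
def node16 : List (Nat × Nat) := [(8, 92), (7, 424), (3, 16), (2, 6), (1, 2), (0, 0)]

theorem node16_ok : okNode node16 4 [40] nodeStore16 = true := by
  decide +kernel

/-- Node 17. -/
def node17 : List (Nat × Nat) := [(4, 40), (8, 92), (7, 424), (3, 16), (2, 6), (1, 2), (0, 0)]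

theorem node17_ok : okNode node17 5 [88] nodeStore17 = true := by
  decide +kernel

/-- Node 18. -/
def node18 : List (Nat × Nat) := [(5, 88), (4, 40), (8, 92), (7, 424), (3, 16), (2, 6), (1, 2), (0, 0)]

theorem node18_ok : okNode node18 6 [154] nodeStore18 = true := by
  decide +kernel

end Cfsg.Agent.Fi22Out
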