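import Cfsg.Agent.Fi22Out.Cent
import Cfsg.Agent.Fi22Out.Nodes
import Cfsg.Agent.CosetCert.Fi22Index14080.Main
import Cfsg.Prelude.Def_KGroupFacts

/-!
The outer automorphism group of Fi22 has order two: along the chain of generators there are at
most two orbits of images, and the symmetry of the diagram is an outer automorphism.
-/

set_option autoImplicit false
set_option Elab.async false

namespace Cfsg.Agent.Fi22Out

open Cfsg.Agent.CosetCert Cfsg.Agent.CosetCert.Fi22U62
open Cfsg.Agent.Fi22Trans (G rels H el t)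

/-- The automorphism sends the listed generators to the transpositions of the listed points. -/
def Normal (s : List (Nat × Nat)) (α : MulAut G) : Prop := ∀ e ∈ s, α (gw [e.1]) = T e.2

/-- The class of the inner automorphisms. -/
abbrev cls (α : MulAut G) : Cfsg.Out G := QuotientGroup.mk α

theorem cls_conj (u : G) (α : MulAut G) : cls (MulAut.conj u * α) = cls α := by
  show QuotientGroup.mk' (Cfsg.Inn G) (MulAut.conj u * α) = QuotientGroup.mk' (Cfsg.Inn G) α
  rw [map_mul, show QuotientGroup.mk' (Cfsg.Inn G) (MulAut.conj u) = 1 from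
    (QuotientGroup.eq_one_iff _).2 ⟨u, rfl⟩, one_mul]

theorem comm_map {x y : G} {β : MulAut G} : Commute (β x) (β y) ↔ Commute x y := by
  refine ⟨fun h => ?_, fun h => h.map β⟩
  have h' := congrArg β.symm h.eq
  rwa [map_mul, map_mul, MulEquiv.symm_apply_apply, MulEquiv.symm_apply_apply] at h'

theorem step {s : List (Nat × Nat)} {next : Nat} {roots : List Nat} {S : Store}
    (hok : okNode s next roots S = true) {α : MulAut G} (h : Normal s α) :
    ∃ u : G, ∃ r, r ∈ roots ∧ Normal ((next, r) :: s) (MulAut.conj u * α) := by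
  obtain ⟨A⟩ := nonempty_act
  rw [okNode, Bool.and_eq_true, Bool.and_eq_true] at hok
  obtain ⟨⟨hnext, hs⟩, hall⟩ := hok
  have hnext' : next < 9 := Nat.ble_eq.mp hnext
  have hs' : ∀ e ∈ s, e.1 < 9 ∧ e.2 < 3510 ∧ gp e.1 ≠ gp next := by
    intro e he
    have h1 := List.all_eq_true.1 hs e he
    simp only [Bool.and_eq_true, Bool.not_eq_true'] at h1
    exact ⟨Nat.ble_eq.mp h1.1.1, Nat.ble_eq.mp h1.1.2, fun h2 => by
      rw [h2, Nat.beq_refl] at h1; exact Bool.noConfusion h1.2⟩
  let pn : Fin data.n := ⟨gp next, (gen_T hnext').1⟩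
  have hpn : gw [next] = T pn := (gen_T hnext').2
  obtain ⟨q, hq⟩ := A.exists_point (d := α (gw [next])) (by
    have h1 : IsConj (α t) (α (gw [next])) := by
      rw [hpn]
      exact α.toMonoidHom.map_isConj (Act.isConj_T _)
    exact (isConj_apply α).trans h1)
  have h2 := (allFrom_iff _ _ _).1 hall q (Nat.zero_le _) (by rw [Nat.zero_add]; exact q.2)
  rw [Bool.or_eq_true] at h2
  have hpat : (s.all fun e => !(Nat.beq q e.2) &&
      ((Nat.beq (data.fwd [e.1] (gp next)) (gp next)) == fix e.2 q)) = true := by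
    rw [List.all_eq_true]
    intro e he
    obtain ⟨he1, he2, hne⟩ := hs' e he
    let p : Fin data.n := ⟨e.2, he2⟩
    let pe : Fin data.n := ⟨gp e.1, (gen_T he1).1⟩
    have hpe : gw [e.1] = T pe := (gen_T he1).2
    have hα : α (gw [e.1]) = T p := h e he
    rw [Bool.and_eq_true, Bool.not_eq_true', beq_iff_eq]
    constructor
    · by_contra h3
      rw [Bool.not_eq_false] at h3
      have hqp : q = p := Fin.ext (Nat.eq_of_beq_eq_true h3)
      rw [hqp, ← hα, EmbeddingLike.apply_eq_iff_eq, hpn, hpe] at hq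
      exact hne (congrArg Fin.val (A.T_inj hq)).symm
    · rw [Bool.eq_iff_iff, show e.2 = (p : Nat) from rfl, A.fix_iff, ← hα, ← hq, comm_map,
        show gp next = (pn : Nat) from rfl, hpn]
      have hw : ∀ x ∈ [e.1], x < 9 := by simpa using he1
      rw [hpe, A.commute_T, ← A.apply_fix (tw_lt _), show gw (tw pe) = T pe from rfl, ← hpe,
        A.apply_fix hw]
      exact ⟨Nat.eq_of_beq_eq_true, fun h => by rw [h]; exact Nat.beq_refl _⟩
  rw [hpat, Bool.not_true] at h2
  simp only [Bool.false_eq_true, false_or, Bool.and_eq_true] at h2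
  obtain ⟨hr, hfixs⟩ := h2
  obtain ⟨r, hrm, hre⟩ := List.any_eq_true.1 hr
  have hw : ∀ x ∈ unp 256 (S.get q), x < 9 := unp_lt _ _
  refine ⟨(gw (unp 256 (S.get q)))⁻¹, r, hrm, ?_⟩
  intro e he
  rw [MulAut.mul_apply, MulAut.conj_apply]
  rcases List.mem_cons.1 he with rfl | he
  · rw [show α (gw [next]) = T q from hq, A.conj_T, map_inv]
    congr 1
    exact (A.fwd hw q).trans (Nat.eq_of_beq_eq_true hre)
  · rw [show α (gw [e.1]) = T (⟨e.2, (hs' e he).2.1⟩ : Fin data.n) from h e he, A.conj_T, map_inv]
    congr 1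
    exact (A.fwd hw _).trans (Nat.eq_of_beq_eq_true (List.all_eq_true.1 hfixs e he))

theorem hom_ext {α β : MulAut G} (h : ∀ x, x < 9 → α (gw [x]) = β (gw [x])) : α = β := by
  have h2 : α.toMonoidHom = β.toMonoidHom := by
    apply PresentedGroup.ext
    intro b
    have hd : dec (enc b) = (b, true) := (spells.enc_lt b).2
    have hb : gw [enc b] = PresentedGroup.of b := by
      rw [gw, List.map_singleton, hd]
      rfl
    rw [← hb]
    exact h _ (spells.enc_lt b).1
  exact MulEquiv.ext fun g => DFunLike.congr_fun h2 g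

/-- The two leaves. -/
def leaf2 : List (Nat × Nat) := [(6, 154), (5, 88), (4, 40), (8, 92), (7, 424), (3, 16), (2, 6), (1, 2), (0, 0)]

/-- Inner, or equivalent to a solution of the second leaf. -/
def Good (α : MulAut G) : Prop :=
  cls α = 1 ∨ ∃ β, Normal leaf2 β ∧ cls α = cls β

theorem good_of_conj (u : G) {α : MulAut G} (h : Good (MulAut.conj u * α)) : Good α := by
  rwa [Good, cls_conj] at h

theorem leaf_covers : ∀ x, x < 9 → (x, gp x) ∈ ([(6, 154), (5, 88), (4, 40), (8, 92), (7, 43), (3, 16), (2, 6), (1, 2), (0, 0)] : List (Nat × Nat)) ∧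
    ∃ p, (x, p) ∈ leaf2 := by
  intro x hx
  interval_cases x <;> exact ⟨by decide +kernel, _, by first
    | exact List.mem_cons_self ..
    | repeat' (first | exact List.mem_cons_self .. | apply List.mem_cons_of_mem)⟩

theorem leaf_one {α : MulAut G} (h : Normal [(6, 154), (5, 88), (4, 40), (8, 92), (7, 43), (3, 16), (2, 6), (1, 2), (0, 0)] α) : Good α := by
  left
  have h1 : α = 1 := hom_ext fun x hx => (h (x, gp x) (leaf_covers x hx).1).trans (gen_T hx).2.symm
  rw [h1]
  rfl

theorem leaf_other {α : MulAut G} (h : Normal leaf2 α) : Good α := Or.inr ⟨α, h, rfl⟩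

theorem leaf2_unique {α β : MulAut G} (hα : Normal leaf2 α) (hβ : Normal leaf2 β) : α = β :=
  hom_ext fun x hx => by
    obtain ⟨p, hp⟩ := (leaf_covers x hx).2
    exact (hα _ hp).trans (hβ _ hp).symm

theorem good_all (α : MulAut G) : Good α := by
  obtain ⟨z, hz⟩ := isConj_iff.1 (isConj_apply α)
  refine good_of_conj z⁻¹ ?_
  have h : Normal node0 (MulAut.conj z⁻¹ * α) := by
    intro e he
    simp only [node0, List.mem_singleton] at he
    subst he
    obtain ⟨A⟩ := nonempty_act
    rw [MulAut.mul_apply, MulAut.conj_apply, show gw [((0, 0) : Nat × Nat).1] = t from gw_zero,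
      show T ((0, 0) : Nat × Nat).2 = t from A.T_base, ← hz]
    group
  obtain ⟨u, r, hr, h⟩ := step node0_ok h
  refine good_of_conj u ?_
  simp only [List.mem_cons, List.not_mem_nil, or_false] at hr
  subst hr
  obtain ⟨u, r, hr, h⟩ := step node1_ok h
  refine good_of_conj u ?_
  simp only [List.mem_cons, List.not_mem_nil, or_false] at hr
  subst hr
  obtain ⟨u, r, hr, h⟩ := step node2_ok h
  refine good_of_conj u ?_
  simp only [List.mem_cons, List.not_mem_nil, or_false] at hr
  subst hr
  obtain ⟨u, r, hr, h⟩ := step node3_ok h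
  refine good_of_conj u ?_
  simp only [List.mem_cons, List.not_mem_nil, or_false] at hr
  rcases hr with rfl | rfl | rfl
  ·
    obtain ⟨u, r, hr, h⟩ := step node4_ok h
    refine good_of_conj u ?_
    simp only [List.mem_cons, List.not_mem_nil, or_false] at hr
    subst hr
    obtain ⟨u, r, hr, h⟩ := step node5_ok h
    refine good_of_conj u ?_
    simp only [List.mem_cons, List.not_mem_nil, or_false] at hr
    subst hr
    obtain ⟨u, r, hr, h⟩ := step node6_ok h
    refine good_of_conj u ?_
    simp only [List.mem_cons, List.not_mem_nil, or_false] at hr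
    subst hr
    obtain ⟨u, r, hr, h⟩ := step node7_ok h
    refine good_of_conj u ?_
    simp only [List.mem_cons, List.not_mem_nil, or_false] at hr
    subst hr
    exact leaf_one h
  ·
    obtain ⟨u, r, hr, h⟩ := step node8_ok h
    refine good_of_conj u ?_
    simp only [List.mem_cons, List.not_mem_nil, or_false] at hr
    subst hr
    obtain ⟨u, r, hr, h⟩ := step node9_ok h
    refine good_of_conj u ?_
    simp only [List.mem_cons, List.not_mem_nil, or_false] at hr
    rcases hr with rfl | rfl | rfl
    ·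
      obtain ⟨u, r, hr, h⟩ := step node10_ok h
      refine good_of_conj u ?_
      simp only [List.mem_cons, List.not_mem_nil, or_false] at hr
      subst hr
      obtain ⟨u, r, hr, h⟩ := step node11_ok h
      simp at hr
    ·
      obtain ⟨u, r, hr, h⟩ := step node12_ok h
      refine good_of_conj u ?_
      simp only [List.mem_cons, List.not_mem_nil, or_false] at hr
      subst hr
      obtain ⟨u, r, hr, h⟩ := step node13_ok h
      simp at hr
    ·
      obtain ⟨u, r, hr, h⟩ := step node14_ok h
      simp at hr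
  ·
    obtain ⟨u, r, hr, h⟩ := step node15_ok h
    refine good_of_conj u ?_
    simp only [List.mem_cons, List.not_mem_nil, or_false] at hr
    subst hr
    obtain ⟨u, r, hr, h⟩ := step node16_ok h
    refine good_of_conj u ?_
    simp only [List.mem_cons, List.not_mem_nil, or_false] at hr
    subst hr
    obtain ⟨u, r, hr, h⟩ := step node17_ok h
    refine good_of_conj u ?_
    simp only [List.mem_cons, List.not_mem_nil, or_false] at hr
    subst hr
    obtain ⟨u, r, hr, h⟩ := step node18_ok h
    refine good_of_conj u ?_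
    simp only [List.mem_cons, List.not_mem_nil, or_false] at hr
    subst hr
    exact leaf_other h

/-- The diagram symmetry on numbers of generators. -/
def sigma : Nat → Nat
  | 0 => 6 | 1 => 5 | 2 => 4 | 4 => 2 | 5 => 1 | 6 => 0 | x => x

theorem sigma_lt : ∀ x, x < 9 → sigma x < 9 := by decide +kernel

theorem sigma_rels : ((coxWords genList Cfsg.Spor.Fi22.edges Cfsg.Spor.Fi22.extra).all fun l =>
    fixesAll (l.map fun a => sigma (enc a.1))) = true := by decide +kernel

theorem exists_sigma : ∃ σ : MulAut G, ∀ x, x < 9 → σ (gw [x]) = gw [sigma x] := by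
  let f : Cfsg.Spor.Fi22.Gen → G := fun b => gw [sigma (enc b)]
  have hf : ∀ l : List (Cfsg.Spor.Fi22.Gen × Bool),
      FreeGroup.lift f (FreeGroup.mk l) = gw (l.map fun a => sigma (enc a.1)) := by
    intro l
    induction l with
    | nil => exact gw_nil.symm
    | cons a l ih =>
      have hsplit : FreeGroup.mk (a :: l) = FreeGroup.mk [a] * FreeGroup.mk l := by
        rw [FreeGroup.mul_mk]; rfl
      rw [hsplit, map_mul, ih, List.map_cons]
      refine Eq.trans ?_ (gw_append [sigma (enc a.1)] _).symm
      congr 1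
      obtain ⟨b, _ | _⟩ := a
      · simp only [FreeGroup.lift_mk, List.map_cons, List.map_nil, List.prod_cons, List.prod_nil,
          mul_one, f]
        exact inv_eq_of_mul_eq_one_right (gw_sq _ (sigma_lt _ (spells.enc_lt b).1))
      · simp [FreeGroup.lift_mk, f]
  have hr : ∀ r ∈ rels, FreeGroup.lift f r = 1 := by
    have hle : Subgroup.normalClosure {r | r ∈ (coxWords genList Cfsg.Spor.Fi22.edges
        Cfsg.Spor.Fi22.extra).map FreeGroup.mk} ≤ (FreeGroup.lift f).ker := by
      apply Subgroup.normalClosure_le_normal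
      intro r hr
      obtain ⟨l, hl, rfl⟩ := List.mem_map.1 hr
      rw [SetLike.mem_coe, MonoidHom.mem_ker, hf]
      refine (fixesAll_iff ?_).1 (List.all_eq_true.1 sigma_rels l hl)
      intro x hx
      obtain ⟨a, -, rfl⟩ := List.mem_map.1 hx
      exact sigma_lt _ (spells.enc_lt a.1).1
    exact fun r hr => hle (spells.rels_mem hr)
  let s : G →* G := PresentedGroup.toGroup hr
  have hs : ∀ x, x < 9 → s (gw [x]) = gw [sigma x] := by
    intro x hx
    obtain ⟨b, hb⟩ : ∃ b, dec x = (b, true) := by
      interval_cases x <;> exact ⟨_, rfl⟩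
    have he : enc b = x := by
      have h1 : ∀ y, y < 9 → enc (dec y).1 = y := by decide +kernel
      rw [← h1 x hx, hb]
    rw [gw, List.map_singleton, hb, ← he]
    exact PresentedGroup.toGroup.of hr
  have hss : s.comp s = MonoidHom.id G := by
    apply PresentedGroup.ext
    intro b
    have hb : gw [enc b] = PresentedGroup.of b := by
      rw [gw, List.map_singleton, (spells.enc_lt b).2]
      rfl
    rw [← hb, MonoidHom.comp_apply, hs _ (spells.enc_lt b).1,
      hs _ (sigma_lt _ (spells.enc_lt b).1), MonoidHom.id_apply]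
    have h2 : ∀ y, y < 9 → sigma (sigma y) = y := by decide +kernel
    rw [h2 _ (spells.enc_lt b).1]
  exact ⟨MonoidHom.toMulEquiv s s hss hss, hs⟩

theorem no_common_fixed : allFrom (fun c => !([1, 2, 3, 4, 5, 6, 7, 8].all fun x =>
    Nat.beq (Fi22Index14080.data.fwd [sigma x] c) c)) 0 14080 = true := by decide +kernel

theorem sigma_outer {σ : MulAut G} (hσ : ∀ x, x < 9 → σ (gw [x]) = gw [sigma x]) : cls σ ≠ 1 := by
  intro h
  obtain ⟨u, hu⟩ := (QuotientGroup.eq_one_iff _).1 h
  obtain ⟨φ, π, hπ, hfwd⟩ := Data.enumeration Fi22Index14080.valid Fi22Index14080.spells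
  have hstab := Data.apply_base_iff Fi22Index14080.valid Fi22Index14080.spells φ π hπ hfwd
  let c0 : Fin Fi22Index14080.data.n := ⟨0, Fi22Index14080.valid.n_pos⟩
  have hfix : ∀ x, x ∈ [1, 2, 3, 4, 5, 6, 7, 8] →
      Fi22Index14080.data.fwd [sigma x] (φ u c0) = φ u c0 := by
    intro x hx
    have hx9 : x < 9 := by simp only [List.mem_cons, List.not_mem_nil, or_false] at hx; omega
    have hmem : gw [x] ∈ Data.sub rels Fi22Index14080.subGens := by
      have : ∀ x, x ∈ [1, 2, 3, 4, 5, 6, 7, 8] →
          FreeGroup.mk ([x].map dec) ∈ Fi22Index14080.subGens := by decide +kernel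
      exact Subgroup.mem_map_of_mem _ (Subgroup.subset_closure (this x hx))
    have h1 : φ (gw [sigma x]) (φ u c0) = φ u c0 := by
      rw [← hσ x hx9, ← hu, MulAut.conj_apply, ← Equiv.Perm.mul_apply, ← map_mul,
        inv_mul_cancel_right, map_mul, Equiv.Perm.mul_apply, (hstab _).2 hmem]
    have h2 := hfwd ([sigma x].map dec) (φ u c0)
    have hcode : ([sigma x].map dec).map (Data.code Fi22Index14080.data.iv Fi22Index14080.enc) =
        [sigma x] := by
      have hall : ∀ x, x < 9 → ([x].map dec).map (Data.code Fi22Index14080.data.iv Fi22Index14080.enc) = [x] := by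
        decide +kernel
      exact hall _ (sigma_lt x hx9)
    rw [hcode, show PresentedGroup.mk rels (FreeGroup.mk ([sigma x].map dec)) = gw [sigma x] from rfl]
      at h2
    rw [← h2, Equiv.Perm.inv_eq_iff_eq.2 h1.symm]
  have h3 := (allFrom_iff _ _ _).1 no_common_fixed (φ u c0) (Nat.zero_le _)
    (by rw [Nat.zero_add]; exact (φ u c0).2)
  rw [Bool.not_eq_true'] at h3
  refine Bool.false_ne_true (h3 ▸ List.all_eq_true.2 fun x hx => ?_)
  rw [hfix x hx]
  exact Nat.beq_refl _

theorem card_out : Nat.card (Cfsg.Out G) = 2 := by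
  obtain ⟨σ, hσ⟩ := exists_sigma
  have hne := sigma_outer hσ
  obtain ⟨β0, hβ0, e0⟩ := (good_all σ).resolve_left hne
  rw [Nat.card_eq_two_iff]
  refine ⟨1, cls σ, hne.symm, ?_⟩
  ext c
  obtain ⟨α, rfl⟩ := QuotientGroup.mk_surjective c
  simp only [Set.mem_insert_iff, Set.mem_singleton_iff, Set.mem_univ, iff_true]
  rcases good_all α with h | ⟨β, hβ, e⟩
  · exact Or.inl h
  · right
    rw [e0, leaf2_unique hβ0 hβ]
    exact e

end Cfsg.Agent.Fi22Out
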