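import Cfsg.Agent.Fi22Trans.Class
import Cfsg.Agent.Fi22Out.Data

/-!
The points of the table of degree 3510 as the transpositions of the presented group Fi22.
-/

set_option autoImplicit false
set_option Elab.async false

namespace Cfsg.Agent.Fi22Out

open Cfsg.Agent.CosetCert Cfsg.Agent.CosetCert.Fi22U62
open Cfsg.Agent.Fi22Trans (G rels H el t)

/-- The word of a packed word. -/
noncomputable def unp (fuel : Nat) : Nat → List Nat :=
  Nat.rec (fun _ => []) (fun _ ih v => Bool.rec (motive := fun _ => List Nat)
    (Nat.mod (Nat.add (Nat.mod v 16) 8) 9 :: ih (Nat.div v 16)) [] (Nat.beq v 0)) fuel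

theorem unp_lt : ∀ fuel v, ∀ x ∈ unp fuel v, x < 9 := by
  intro fuel
  induction fuel with
  | zero => intro v x hx; exact absurd hx List.not_mem_nil
  | succ m ih =>
    intro v x hx
    have h : unp (m + 1) v = Bool.rec (motive := fun _ => List Nat)
      (Nat.mod (Nat.add (Nat.mod v 16) 8) 9 :: unp m (Nat.div v 16)) [] (Nat.beq v 0) := rfl
    rw [h] at hx
    cases hv : Nat.beq v 0 with
    | false =>
      rw [hv] at hx
      rcases List.mem_cons.1 hx with rfl | hx
      · exact Nat.mod_lt _ (by norm_num)
      · exact ih _ x hx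
    | true => rw [hv] at hx; exact absurd hx List.not_mem_nil

/-- The path to a point. -/
noncomputable def path (q : Nat) : List Nat := unp 64 (pathStore.get q)

/-- The word of the transposition of a point. -/
noncomputable def tw (q : Nat) : List Nat := (path q).reverse ++ 0 :: path q

/-- The element of a word of numbers. -/
def gw (w : List Nat) : G := el (w.map dec)

theorem gw_nil : gw [] = 1 := map_one _

theorem gw_append (u v : List Nat) : gw (u ++ v) = gw u * gw v := by
  rw [gw, gw, gw, el, el, el, List.map_append, ← FreeGroup.mul_mk, map_mul]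

theorem codes_dec {w : List Nat} (hw : ∀ x ∈ w, x < 9) :
    (w.map dec).map (Data.code data.iv enc) = w := by
  rw [List.map_map]
  conv_rhs => rw [← List.map_id w]
  exact List.map_congr_left fun x hx => spells.code_dec x (hw x hx)

/-- A word of numbers moves no point. -/
noncomputable def fixesAll (w : List Nat) : Bool :=
  allFrom (fun c => Nat.beq (data.fwd w c) c) 0 3510

theorem fixesAll_iff {w : List Nat} (hw : ∀ x ∈ w, x < 9) : fixesAll w = true ↔ gw w = 1 := by
  rw [gw, ← Fi22Trans.isId_iff, Fi22Trans.isId, Fi22Trans.codes, codes_dec hw]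
  rfl

theorem gw_sq (x : Nat) (hx : x < 9) : gw [x] * gw [x] = 1 := by
  rw [← gw_append, ← fixesAll_iff (by simpa using hx)]
  have h : allFrom (fun x => fixesAll ([x] ++ [x])) 0 9 = true := by decide +kernel
  exact (allFrom_iff _ _ _).1 h x (Nat.zero_le _) (by omega)

theorem gw_reverse {w : List Nat} (hw : ∀ x ∈ w, x < 9) : gw w.reverse = (gw w)⁻¹ := by
  induction w with
  | nil => simp [gw_nil]
  | cons x w ih =>
    rw [List.reverse_cons, gw_append, ih (fun y hy => hw y (List.mem_cons_of_mem _ hy)),
      show gw (x :: w) = gw [x] * gw w from gw_append [x] w, mul_inv_rev,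
      inv_eq_of_mul_eq_one_right (gw_sq x (hw x (List.mem_cons_self ..)))]

theorem gw_zero : gw [0] = t := rfl

/-- The transposition of a point. -/
noncomputable def T (q : Nat) : G := gw (tw q)

theorem path_lt (q : Nat) : ∀ x ∈ path q, x < 9 := unp_lt _ _

theorem tw_lt (q : Nat) : ∀ x ∈ tw q, x < 9 := by
  intro x hx
  simp only [tw, List.mem_append, List.mem_reverse, List.mem_cons] at hx
  rcases hx with hx | rfl | hx
  · exact path_lt q x hx
  · norm_num
  · exact path_lt q x hx

theorem T_eq (q : Nat) : T q = (gw (path q))⁻¹ * t * gw (path q) := by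
  rw [T, tw, gw_append, show gw (0 :: path q) = gw [0] * gw (path q) from gw_append [0] _,
    gw_reverse (path_lt q), gw_zero, mul_assoc]

theorem path_ok : allFrom (fun q => Nat.beq (data.fwd (path q) 0) q) 0 3510 = true := by
  decide +kernel

/-- An action of the group on the table with its standard properties. -/
structure Act where
  φ : G →* Equiv.Perm (Fin data.n)
  inj : Function.Injective φ
  stab : ∀ g : G, φ g ⟨0, valid.n_pos⟩ = ⟨0, valid.n_pos⟩ ↔ g ∈ H
  fwd : ∀ {w : List Nat}, (∀ x ∈ w, x < 9) → ∀ c : Fin data.n,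
    (((φ (gw w))⁻¹ c : Fin data.n) : Nat) = data.fwd w c

theorem nonempty_act : Nonempty Act := by
  obtain ⟨φ, π, hπ, hfwd⟩ := Data.enumeration valid spells
  exact ⟨⟨φ, (Data.order_eq valid spells φ hfwd Fi22Order.card_bound.1 Fi22Order.card_bound.2
      Fi22Order.levels Fi22Order.levels_ok (by decide +kernel)).1,
    Data.apply_base_iff valid spells φ π hπ hfwd,
    fun hw c => (hfwd _ c).trans (by rw [codes_dec hw])⟩⟩

/-- The base point. -/
def base : Fin data.n := ⟨0, valid.n_pos⟩

namespace Act

variable (A : Act)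
include A

theorem path_to (q : Fin data.n) : A.φ (gw (path q))⁻¹ base = q := by
  rw [map_inv]
  exact Fin.ext ((A.fwd (path_lt q) base).trans (Nat.eq_of_beq_eq_true
    ((allFrom_iff _ _ _).1 path_ok q (Nat.zero_le _) (by rw [Nat.zero_add]; exact q.2))))

theorem conj_t (z : G) : z * t * z⁻¹ = T (A.φ z base) := by
  rw [T_eq]
  set w := gw (path (A.φ z base))
  have hw : A.φ w⁻¹ base = A.φ z base := A.path_to _
  have hmem : w * z ∈ H := (A.stab _).1 (by
    show A.φ (w * z) base = base
    rw [map_mul, Equiv.Perm.mul_apply, ← hw, map_inv, ← Equiv.Perm.mul_apply, mul_inv_cancel,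
      Equiv.Perm.one_apply])
  have hc := Subgroup.mem_centralizer_singleton_iff.1 (Fi22Trans.le_centralizer hmem)
  calc z * t * z⁻¹ = w⁻¹ * (w * z * t) * z⁻¹ := by group
    _ = w⁻¹ * t * w := by rw [hc]; group

theorem conj_T (z : G) (q : Fin data.n) : z * T q * z⁻¹ = T (A.φ z q) := by
  rw [T_eq]
  calc z * ((gw (path q))⁻¹ * t * gw (path q)) * z⁻¹
      = (z * (gw (path q))⁻¹) * t * (z * (gw (path q))⁻¹)⁻¹ := by group
    _ = T (A.φ (z * (gw (path q))⁻¹) base) := A.conj_t _
    _ = T (A.φ z q) := by rw [map_mul, Equiv.Perm.mul_apply, A.path_to]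

theorem T_inj {p q : Fin data.n} (h : T p = T q) : p = q := by
  rw [T_eq, T_eq] at h
  have hmem : gw (path q) * (gw (path p))⁻¹ ∈ Subgroup.centralizer ({t} : Set G) := by
    rw [Subgroup.mem_centralizer_singleton_iff]
    calc gw (path q) * (gw (path p))⁻¹ * t
        = gw (path q) * ((gw (path p))⁻¹ * t * gw (path p)) * (gw (path p))⁻¹ := by group
      _ = t * (gw (path q) * (gw (path p))⁻¹) := by rw [h]; group
  rw [Fi22Trans.centralizer_eq, ← A.stab, map_mul, Equiv.Perm.mul_apply] at hmem
  have h2 : A.φ (gw (path q)) p = base := by rw [← A.path_to p]; exact hmem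
  rw [← A.path_to q, map_inv, ← h2, ← Equiv.Perm.mul_apply, inv_mul_cancel, Equiv.Perm.one_apply]

theorem T_base : T (base : Fin data.n) = t := by
  have h := A.conj_t 1
  rw [one_mul, inv_one, mul_one, map_one, Equiv.Perm.one_apply] at h
  exact h.symm

theorem exists_point {d : G} (hd : IsConj t d) : ∃ q : Fin data.n, d = T q := by
  obtain ⟨z, rfl⟩ := isConj_iff.1 hd
  exact ⟨_, A.conj_t z⟩

omit A in
theorem isConj_T (q : Nat) : IsConj t (T q) :=
  isConj_iff.2 ⟨(gw (path q))⁻¹, by rw [T_eq, inv_inv]⟩

theorem apply_fix {w : List Nat} (hw : ∀ x ∈ w, x < 9) (c : Fin data.n) :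
    A.φ (gw w) c = c ↔ data.fwd w c = c := by
  rw [← A.fwd hw c, Fin.val_inj, Equiv.Perm.inv_eq_iff_eq]
  exact eq_comm

theorem commute_T {p q : Fin data.n} : Commute (T p) (T q) ↔ data.fwd (tw p) q = q := by
  rw [← A.apply_fix (tw_lt p)]
  show _ ↔ A.φ (T p) q = q
  constructor
  · intro h
    apply A.T_inj
    rw [← A.conj_T (T p) q, h.eq, mul_inv_cancel_right]
  · intro h
    have := A.conj_T (T p) q
    rw [h] at this
    exact mul_inv_eq_iff_eq_mul.1 this

end Act

/-- Two transpositions commute, on points. -/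
noncomputable def fix (p q : Nat) : Bool := Nat.beq (data.fwd (tw p) q) q

theorem Act.fix_iff (A : Act) (p q : Fin data.n) : fix p q = true ↔ Commute (T p) (T q) := by
  rw [A.commute_T, fix]
  exact ⟨Nat.eq_of_beq_eq_true, fun h => by rw [h]; exact Nat.beq_refl _⟩

/-- The point of the `x`th generator. -/
noncomputable def gp (x : Nat) : Nat := genPts.getD x 0

theorem gen_T {x : Nat} (hx : x < 9) : gp x < 3510 ∧ gw [x] = T (gp x) := by
  have h : allFrom (fun x => Nat.blt (gp x) 3510 && fixesAll ([x] ++ tw (gp x))) 0 9 = true := by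
    decide +kernel
  have h2 := (allFrom_iff _ _ _).1 h x (Nat.zero_le _) (by omega)
  rw [Bool.and_eq_true] at h2
  refine ⟨Nat.ble_eq.mp h2.1, ?_⟩
  have h3 := (fixesAll_iff (by
    intro y hy
    rcases List.mem_append.1 hy with hy | hy
    · simp only [List.mem_singleton] at hy; omega
    · exact tw_lt _ y hy)).1 h2.2
  rw [gw_append] at h3
  have h4 := inv_eq_of_mul_eq_one_right h3
  rw [inv_eq_of_mul_eq_one_right (gw_sq x hx)] at h4
  exact h4

/-- A node of the chain: the candidates for the image of the next generator are conjugate to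
one of the roots by words fixing the earlier points. -/
noncomputable def okNode (s : List (Nat × Nat)) (next : Nat) (roots : List Nat) (S : Store) : Bool :=
  Nat.blt next 9 && (s.all fun e => Nat.blt e.1 9 && Nat.blt e.2 3510 &&
      !(Nat.beq (gp e.1) (gp next))) &&
    allFrom (fun q =>
      !(s.all fun e => !(Nat.beq q e.2) &&
          ((Nat.beq (data.fwd [e.1] (gp next)) (gp next)) == fix e.2 q)) ||
        ((roots.any fun r => Nat.beq (data.fwd (unp 256 (S.get q)) q) r) &&
          s.all fun e => Nat.beq (data.fwd (unp 256 (S.get q)) e.2) e.2)) 0 3510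

end Cfsg.Agent.Fi22Out
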