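import Cfsg.Agent.Fi22Out.Check

/-!
An element of order eleven fixes one point and commutes with no involution but the transposition
of that point; so every automorphism sends transpositions to transpositions.
-/

set_option autoImplicit false
set_option Elab.async false

namespace Cfsg.Agent.Fi22Out

open Cfsg.Agent.CosetCert Cfsg.Agent.CosetCert.Fi22U62
open Cfsg.Agent.Fi22Trans (G rels H el t)

theorem movers_lt : ∀ i, ∀ x ∈ movers.getD i [], x < 9 := by
  intro i x hx
  rcases i with _ | _ | _ | i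
  · simp [movers] at hx; omega
  · exact tw_lt 22 x hx
  · exact xWord_lt x hx
  · simp [movers] at hx

theorem centWords_lt : ∀ w ∈ centWords, ∀ x ∈ w, x < 9 := by
  intro w hw x hx
  simp only [centWords, List.mem_append, List.mem_map] at hw
  rcases hw with ⟨k, -, rfl⟩ | ⟨k, -, rfl⟩
  · exact rep_lt xWord_lt k x hx
  · rcases List.mem_append.1 hx with hx | hx
    · exact rep_lt xWord_lt k x hx
    · simp only [List.mem_singleton] at hx; omega

/-- The element of order eleven. -/
abbrev X : G := gw xWord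

theorem X_pow : X ^ 11 = 1 := by
  rw [← gw_rep]
  exact (fixesAll_iff (rep_lt xWord_lt _)).1 x_check.1.1

theorem X_ne : X ≠ 1 := fun h =>
  Bool.false_ne_true (x_check.1.2 ▸ (fixesAll_iff xWord_lt).2 h)

theorem orderOf_X : orderOf X = 11 := by
  have : Fact (Nat.Prime 11) := ⟨by norm_num⟩
  exact orderOf_eq_prime X_pow X_ne

theorem X_mem (A : Act) : X ∈ H :=
  (A.stab X).1 ((A.apply_fix xWord_lt base).2 x_check.2.1)

theorem commute_t_X (A : Act) : Commute t X :=
  (Subgroup.mem_centralizer_singleton_iff.1 (Fi22Trans.le_centralizer (X_mem A))).symm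

theorem centWords_commute (A : Act) : ∀ w ∈ centWords, gw w ∈ H ∧ Commute (gw w) X := by
  intro w hw
  simp only [centWords, List.mem_append, List.mem_map] at hw
  rcases hw with ⟨k, -, rfl⟩ | ⟨k, -, rfl⟩
  · rw [gw_rep]
    exact ⟨pow_mem (X_mem A) k, (Commute.refl X).pow_left k⟩
  · rw [gw_append, gw_rep, gw_zero]
    refine ⟨mul_mem (pow_mem (X_mem A) k) ?_,
      ((Commute.refl X).pow_left k).mul_left (commute_t_X A)⟩
    rw [← Fi22Trans.centralizer_eq, Subgroup.mem_centralizer_singleton_iff]

/-- An element that commutes with `X` and `t` and fixes the point 22 is trivial. -/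
theorem eq_one_of_fix (A : Act) {y : G} (hy : y ∈ H) (hX : Commute y X)
    (h22 : A.φ y ⟨22, by decide +kernel⟩ = ⟨22, by decide +kernel⟩) : y = 1 := by
  have ht : Commute y t := Subgroup.mem_centralizer_singleton_iff.1 (Fi22Trans.le_centralizer hy)
  have hT : Commute y (T 22) := by
    have h := A.conj_T y ⟨22, by decide +kernel⟩
    rw [h22] at h
    exact mul_inv_eq_iff_eq_mul.1 h
  have hgen : ∀ i, i < 3 → Commute y (gw (movers.getD i [])) := by
    intro i hi
    interval_cases i
    · exact ht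
    · exact hT
    · exact hX
  have hall : ∀ r, ∀ q : Fin data.n, orbitStore.get q / 16777216 = r → A.φ y q = q := by
    intro r
    induction r using Nat.strong_induction_on with
    | _ r ih =>
      intro q hq
      have h := (allFrom_iff _ _ _).1 okOrbit_all q (Nat.zero_le _) (by rw [Nat.zero_add]; exact q.2)
      simp only [okOrbit, force_eq, Bool.or_eq_true, Bool.and_eq_true] at h
      rcases h with h | ⟨⟨⟨hp, hr⟩, hi⟩, hf⟩
      · rw [show q = base from Fin.ext (Nat.eq_of_beq_eq_true h)]
        exact (A.stab y).2 hy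
      · let p : Fin data.n := ⟨_, Nat.ble_eq.mp hp⟩
        have hpy : A.φ y p = p := ih _ (hq ▸ Nat.ble_eq.mp hr) p rfl
        have hmove : (A.φ (gw (movers.getD (orbitStore.get q % 16) [])))⁻¹ p = q :=
          Fin.ext ((A.fwd (movers_lt _) p).trans (Nat.eq_of_beq_eq_true hf))
        rw [← hmove, ← map_inv, ← Equiv.Perm.mul_apply, ← map_mul,
          show y * (gw (movers.getD (orbitStore.get q % 16) []))⁻¹ =
            (gw (movers.getD (orbitStore.get q % 16) []))⁻¹ * y from
            ((hgen _ (Nat.ble_eq.mp hi)).inv_right).eq, map_mul, Equiv.Perm.mul_apply, hpy]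
  apply A.inj
  rw [map_one]
  ext q
  rw [hall _ q rfl, Equiv.Perm.one_apply]

/-- Every element of the base stabiliser commuting with `X` is one of the known ones. -/
theorem mem_centWords (A : Act) {y : G} (hy : y ∈ H) (hX : Commute y X) :
    ∃ w ∈ centWords, y = (gw w)⁻¹ := by
  let q0 : Fin data.n := ⟨22, by decide +kernel⟩
  let q : Fin data.n := A.φ y q0
  have h := (allFrom_iff _ _ _).1 okCand_all q (Nat.zero_le _) (by rw [Nat.zero_add]; exact q.2)
  rw [okCand, Bool.or_eq_true] at h
  have hTq : T q = y * T q0 * y⁻¹ := (A.conj_T y q0).symm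
  have hpat : ((List.range 5).all fun k => fix q (data.fwd (rep (k + 1) xWord) q) ==
      fix 22 (data.fwd (rep (k + 1) xWord) 22)) = true := by
    rw [List.all_eq_true]
    intro k _
    rw [beq_iff_eq, Bool.eq_iff_iff]
    have hw : ∀ x ∈ rep (k + 1) xWord, x < 9 := rep_lt xWord_lt _
    set u := gw (rep (k + 1) xWord) with hu
    have huy : Commute y u⁻¹ := by
      rw [hu, gw_rep]
      exact (hX.pow_right _).inv_right
    rw [← A.fwd hw q, show (22 : Nat) = q0 from rfl, ← A.fwd hw q0, A.fix_iff, A.fix_iff, ← map_inv,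
      ← hu, ← A.conj_T u⁻¹ q, ← A.conj_T u⁻¹ q0, hTq]
    have e : u⁻¹ * (y * T q0 * y⁻¹) * u⁻¹⁻¹ = y * (u⁻¹ * T q0 * u⁻¹⁻¹) * y⁻¹ :=
      calc u⁻¹ * (y * T q0 * y⁻¹) * u⁻¹⁻¹ = (u⁻¹ * y) * T q0 * (u⁻¹ * y)⁻¹ := by group
        _ = (y * u⁻¹) * T q0 * (y * u⁻¹)⁻¹ := by rw [huy.eq]
        _ = _ := by group
    rw [e]
    exact Commute.conj_iff y
  have htw : ∀ c, data.fwd (twelve q) c = c ∨ 3510 ≤ c := by
    intro c
    rcases Nat.lt_or_ge c 3510 with hc | hc
    · left
      have h0 : gw (twelve 22) = 1 :=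
        (fixesAll_iff (rep_lt (fun x hx => (List.mem_append.1 hx).elim (tw_lt _ x) (xWord_lt x)) _)).1
          twelve_check
      have hone : gw (twelve q) = 1 := by
        rw [twelve, gw_rep, gw_append] at h0 ⊢
        have e : gw (tw q) * gw xWord = y * (gw (tw 22) * gw xWord) * y⁻¹ := by
          show T q * X = y * (T q0 * X) * y⁻¹
          rw [hTq]
          calc y * T q0 * y⁻¹ * X = y * T q0 * (y⁻¹ * X) := by group
            _ = y * T q0 * (X * y⁻¹) := by rw [hX.inv_left.eq]
            _ = _ := by group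
        rw [e, conj_pow, h0, mul_one, mul_inv_cancel]
      have h1 := A.fwd (rep_lt (fun x hx => (List.mem_append.1 hx).elim (tw_lt _ x) (xWord_lt x)) 12)
        (w := twelve q) ⟨c, hc⟩
      rw [hone, map_one, inv_one, Equiv.Perm.one_apply] at h1
      exact h1.symm
    · exact Or.inr hc
  rcases h with h | h
  · exfalso
    rw [hpat, (htw 0).resolve_right (by norm_num), (htw 1).resolve_right (by norm_num)] at h
    simp at h
  · obtain ⟨w, hw, hwq⟩ := List.any_eq_true.1 h
    refine ⟨w, hw, eq_inv_of_mul_eq_one_right ?_⟩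
    refine eq_one_of_fix A (mul_mem (centWords_commute A w hw).1 hy)
      ((centWords_commute A w hw).2.mul_left hX) ?_
    have h2 : (A.φ (gw w))⁻¹ q0 = q :=
      Fin.ext ((A.fwd (centWords_lt w hw) q0).trans (Nat.eq_of_beq_eq_true hwq))
    rw [map_mul, Equiv.Perm.mul_apply]
    exact (Equiv.Perm.inv_eq_iff_eq.1 h2).symm

/-- An involution commuting with `X` is the transposition `t`. -/
theorem eq_t_of_commute (A : Act) {s : G} (hs : orderOf s = 2) (hX : Commute s X) : s = t := by
  have hfix : A.φ s base = base := by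
    have hx0 : A.φ X base = base := (A.apply_fix xWord_lt base).2 x_check.2.1
    have hx1 : A.φ X (A.φ s base) = A.φ s base := by
      rw [← Equiv.Perm.mul_apply, ← map_mul, ← hX.eq, map_mul, Equiv.Perm.mul_apply, hx0]
    have h2 := (A.apply_fix xWord_lt _).1 hx1
    have h := (allFrom_iff _ _ _).1 x_check.2.2 (A.φ s base) (Nat.zero_le _)
      (by rw [Nat.zero_add]; exact (A.φ s base).2)
    rw [h2, Nat.beq_refl, Bool.not_true, Bool.or_false] at h
    exact Fin.ext (Nat.eq_of_beq_eq_true h)
  obtain ⟨w, hw, rfl⟩ := mem_centWords A ((A.stab s).1 hfix) hX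
  rw [orderOf_inv] at hs
  have hlt := centWords_lt w hw
  have hlt2 : ∀ x ∈ w ++ w, x < 9 := fun x hx => (List.mem_append.1 hx).elim (hlt x) (hlt x)
  have hlt0 : ∀ x ∈ w ++ [0], x < 9 := fun x hx =>
    (List.mem_append.1 hx).elim (hlt x) (fun h => by simp only [List.mem_singleton] at h; omega)
  have h := List.all_eq_true.1 cent_invol w hw
  rw [Bool.or_eq_true, Bool.or_eq_true, Bool.not_eq_true'] at h
  have hsq : gw w * gw w = 1 := by rw [← pow_two, ← hs, pow_orderOf_eq_one]
  rcases h with (h | h) | h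
  · rw [(fixesAll_iff hlt2).2 (by rw [gw_append, hsq])] at h
    exact absurd h (by simp)
  · rw [(fixesAll_iff hlt).1 h, orderOf_one] at hs
    exact absurd hs (by norm_num)
  · have h3 := (fixesAll_iff hlt0).1 h
    rw [gw_append, gw_zero] at h3
    exact inv_eq_of_mul_eq_one_right h3

/-- Every automorphism sends `t` to a transposition. -/
theorem isConj_apply (α : MulAut G) : IsConj t (α t) := by
  obtain ⟨A⟩ := nonempty_act
  have : Fact (Nat.Prime 11) := ⟨by norm_num⟩
  have hGf : Finite G := Fi22Order.card_bound.1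
  have hG : Nat.card G = 64561751654400 := Fi22Order.order_and_simple.2
  have hdvd : 11 ∣ Nat.card (Subgroup.centralizer ({α t} : Set G)) := by
    have e : (Subgroup.centralizer ({t} : Set G)).map α.toMonoidHom =
        Subgroup.centralizer ({α t} : Set G) := by
      ext g
      rw [Subgroup.mem_map_equiv, Subgroup.mem_centralizer_singleton_iff,
        Subgroup.mem_centralizer_singleton_iff]
      constructor
      · intro h
        have h' := congrArg α h
        rwa [map_mul, map_mul, α.apply_symm_apply] at h'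
      · intro h
        apply α.injective
        rwa [map_mul, map_mul, α.apply_symm_apply]
    rw [← e, Subgroup.card_map_of_injective α.injective, Fi22Trans.centralizer_eq,
      show Nat.card H = 18393661440 from Fi22U62Iso.card_H]
    norm_num
  obtain ⟨⟨x, hx⟩, hox⟩ := exists_prime_orderOf_dvd_card' 11 hdvd
  rw [Subgroup.orderOf_mk] at hox
  have hP : ∀ y : G, orderOf y = 11 →
      ∃ P : Sylow 11 G, (P : Subgroup G) = Subgroup.zpowers y := by
    intro y hy
    have hy' : IsPGroup 11 (Subgroup.zpowers y) :=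
      IsPGroup.of_card (n := 1) (by rw [Nat.card_zpowers, hy, pow_one])
    obtain ⟨P, hP⟩ := hy'.exists_le_sylow
    refine ⟨P, (Subgroup.eq_of_le_of_card_ge hP ?_).symm⟩
    obtain ⟨k, hk⟩ := IsPGroup.iff_card.1 P.2
    rw [Nat.card_zpowers, hy, hk]
    have hdv : 11 ^ k ∣ 64561751654400 := hG ▸ hk ▸ Subgroup.card_subgroup_dvd_card _
    by_contra hlt
    have hk2 : 2 ≤ k := by
      by_contra h2
      interval_cases k <;> simp at hlt
    exact absurd ((pow_dvd_pow 11 hk2).trans hdv) (by norm_num)
  obtain ⟨P, hPe⟩ := hP x hox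
  obtain ⟨Q, hQe⟩ := hP X orderOf_X
  obtain ⟨g, hg⟩ := MulAction.exists_smul_eq G P Q
  have hmem : g * x * g⁻¹ ∈ Subgroup.zpowers X := by
    have hxP : x ∈ (P : Subgroup G) := hPe ▸ Subgroup.mem_zpowers x
    rw [← hQe, ← hg, Sylow.smul_def]
    exact Subgroup.smul_mem_pointwise_smul x (MulAut.conj g) P hxP
  have hXmem : X ∈ Subgroup.zpowers (g * x * g⁻¹) := by
    have hcard : Nat.card (Subgroup.zpowers X) = 11 := by rw [Nat.card_zpowers, orderOf_X]
    have hne : (⟨_, hmem⟩ : Subgroup.zpowers X) ≠ 1 := by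
      intro h
      have h' : g * x * g⁻¹ = 1 := congrArg Subtype.val h
      rw [conj_eq_one_iff.1 h', orderOf_one] at hox
      norm_num at hox
    obtain ⟨k, hk⟩ := Subgroup.mem_zpowers_iff.1
      (mem_zpowers_of_prime_card hcard hne (g' := ⟨X, Subgroup.mem_zpowers X⟩))
    exact Subgroup.mem_zpowers_iff.2 ⟨k, congrArg Subtype.val hk⟩
  obtain ⟨k, hk⟩ := hXmem
  have hcomm : Commute (g * α t * g⁻¹) X := by
    rw [← hk]
    have h0 : Commute (α t) x := (Subgroup.mem_centralizer_singleton_iff.1 hx).symm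
    exact ((Commute.conj_iff g).2 h0).zpow_right k
  have ho : orderOf (g * α t * g⁻¹) = 2 := by
    rw [← MulAut.conj_apply, MulEquiv.orderOf_eq, MulEquiv.orderOf_eq, Fi22Trans.orderOf_t]
  refine isConj_iff.2 ⟨g⁻¹, ?_⟩
  calc g⁻¹ * t * g⁻¹⁻¹ = g⁻¹ * (g * α t * g⁻¹) * g⁻¹⁻¹ := by rw [eq_t_of_commute A ho hcomm]
    _ = α t := by group

end Cfsg.Agent.Fi22Out
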