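import Cfsg.Agent.Fi22Out.Basic

/-! The checks on the table for the centraliser of an element of order eleven. -/

set_option autoImplicit false
set_option Elab.async false

namespace Cfsg.Agent.Fi22Out

open Cfsg.Agent.CosetCert Cfsg.Agent.CosetCert.Fi22U62
open Cfsg.Agent.Fi22Trans (G rels H el t)

/-- A word repeated. -/
def rep (k : Nat) (w : List Nat) : List Nat := (List.replicate k w).flatten

theorem gw_rep (w : List Nat) : ∀ k, gw (rep k w) = gw w ^ k
  | 0 => gw_nil
  | k + 1 => by
    rw [pow_succ', ← gw_rep w k, ← gw_append]
    rfl

theorem rep_lt {w : List Nat} (hw : ∀ x ∈ w, x < 9) (k : Nat) : ∀ x ∈ rep k w, x < 9 := by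
  intro x hx
  obtain ⟨l, hl, hxl⟩ := List.mem_flatten.1 hx
  exact hw x (List.eq_of_mem_replicate hl ▸ hxl)

theorem xWord_lt : ∀ x ∈ xWord, x < 9 := by decide +kernel

theorem x_check : (fixesAll (rep 11 xWord) = true ∧ fixesAll xWord = false) ∧
    data.fwd xWord 0 = 0 ∧ allFrom (fun c => Nat.beq c 0 || !(Nat.beq (data.fwd xWord c) c)) 0 3510 = true := by
  refine ⟨⟨?_, ?_⟩, ?_, ?_⟩ <;> decide +kernel

/-- The distinguishing relation of the second point: twelve times the transposition times `X`. -/
noncomputable def twelve (q : Nat) : List Nat := rep 12 (tw q ++ xWord)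

theorem twelve_check : fixesAll (twelve 22) = true := by decide +kernel

/-- The elements of the centraliser, as words. -/
def centWords : List (List Nat) :=
  ((List.range 11).map fun k => rep k xWord) ++ (List.range 11).map fun k => rep k xWord ++ [0]

/-- A point that may be the image of point 22 is an image under the known centraliser. -/
noncomputable def okCand (q : Nat) : Bool :=
  !(((List.range 5).all fun k =>
      fix q (data.fwd (rep (k + 1) xWord) q) == fix 22 (data.fwd (rep (k + 1) xWord) 22)) &&
    Nat.beq (data.fwd (twelve q) 0) 0 && Nat.beq (data.fwd (twelve q) 1) 1) ||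
  centWords.any fun w => Nat.beq (data.fwd w 22) q

theorem okCand_all : allFrom okCand 0 3510 = true := by decide +kernel

/-- Among the known elements only the identity and `t` are involutions. -/
theorem cent_invol : (centWords.all fun w =>
    !(fixesAll (w ++ w)) || fixesAll w || fixesAll (w ++ [0])) = true := by decide +kernel

/-- The three elements moving the base point to every point. -/
noncomputable def movers : List (List Nat) := [[0], tw 22, xWord]

/-- A point is reached from one of smaller rank. -/
noncomputable def okOrbit (q : Nat) : Bool :=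
  force (orbitStore.get q) fun e => Nat.beq q 0 ||
    (Nat.blt (Nat.div e 16 % 1048576) 3510 &&
      Nat.blt (Nat.div (orbitStore.get (Nat.div e 16 % 1048576)) 16777216) (Nat.div e 16777216) &&
      Nat.blt (Nat.mod e 16) 3 &&
      Nat.beq (data.fwd (movers.getD (Nat.mod e 16) []) (Nat.div e 16 % 1048576)) q)

theorem okOrbit_all : allFrom okOrbit 0 3510 = true := by decide +kernel

end Cfsg.Agent.Fi22Out
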